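import Mathlib

/-!
# S5713 (Babai's bound on the minimal degree): definitions and basic invariance

`R G x y z w` : the pairs `(x,y)` and `(z,w)` lie in the same `G`-orbit on `Ω × Ω`.
`N G a b x`   : the `(a,b)`-orbital neighbours of `x`.
`val G a b`   : the valency of the orbital of `(a,b)`.
`D G x y`     : the points `z` distinguishing `x` and `y`.
-/

set_option autoImplicit false

namespace Cfsg.Agent.S5713L

open MulAction

variable (G : Type*) {Ω : Type*} [Group G] [MulAction G Ω]

/-- `(x,y)` and `(z,w)` lie in the same orbital. -/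
def R (x y z w : Ω) : Prop := ∃ h : G, h • x = z ∧ h • y = w

/-- The `(a,b)`-orbital neighbours of `x`. -/
def N (a b x : Ω) : Set Ω := {z | R G a b x z}

/-- The valency of the orbital of `(a,b)`. -/
noncomputable def val (a b : Ω) : ℕ := (N G a b a).ncard

/-- The points distinguishing `x` and `y`. -/
def D (x y : Ω) : Set Ω := {z | ¬ R G x z y z}

variable {G}

theorem R_refl (x y : Ω) : R G x y x y := ⟨1, one_smul _ _, one_smul _ _⟩

theorem R_symm {x y z w : Ω} (h : R G x y z w) : R G z w x y := by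
  obtain ⟨g, h1, h2⟩ := h
  exact ⟨g⁻¹, by rw [← h1, inv_smul_smul], by rw [← h2, inv_smul_smul]⟩

theorem R_trans {x y z w u v : Ω} (h : R G x y z w) (h' : R G z w u v) : R G x y u v := by
  obtain ⟨g, h1, h2⟩ := h
  obtain ⟨k, h3, h4⟩ := h'
  exact ⟨k * g, by rw [mul_smul, h1, h3], by rw [mul_smul, h2, h4]⟩

theorem R_smul (g : G) (x y : Ω) : R G x y (g • x) (g • y) := ⟨g, rfl, rfl⟩

theorem R_swap {x y z w : Ω} (h : R G x y z w) : R G y x w z := by
  obtain ⟨g, h1, h2⟩ := h
  exact ⟨g, h2, h1⟩

theorem R_smul_iff (g : G) (x y z w : Ω) : R G x y (g • z) (g • w) ↔ R G x y z w := by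
  constructor
  · intro h
    exact R_trans h (R_symm (R_smul g z w))
  · intro h
    exact R_trans h (R_smul g z w)

theorem R_smul_left_iff (g : G) (x y z w : Ω) : R G (g • x) (g • y) z w ↔ R G x y z w := by
  constructor
  · intro h
    exact R_trans (R_smul g x y) h
  · intro h
    exact R_trans (R_symm (R_smul g x y)) h

theorem R_eq_iff {x y z w : Ω} (h : R G x y z w) : x = y ↔ z = w := by
  obtain ⟨g, h1, h2⟩ := h
  constructor
  · intro e; rw [← h1, ← h2, e]
  · intro e
    rw [← h1, ← h2] at e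
    exact MulAction.injective g e

theorem mem_N {a b x z : Ω} : z ∈ N G a b x ↔ R G a b x z := Iff.rfl

theorem mem_D {x y z : Ω} : z ∈ D G x y ↔ ¬ R G x z y z := Iff.rfl

theorem N_smul (g : G) (a b x : Ω) : N G a b (g • x) = (fun z => g • z) '' N G a b x := by
  ext z
  simp only [mem_N, Set.mem_image]
  constructor
  · intro h
    refine ⟨g⁻¹ • z, ?_, smul_inv_smul g z⟩
    have := (R_smul_iff g⁻¹ a b (g • x) z).mpr h
    rwa [inv_smul_smul] at this
  · rintro ⟨w, hw, rfl⟩
    exact (R_smul_iff g a b x w).mpr hw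

theorem ncard_N_smul (g : G) (a b x : Ω) : (N G a b (g • x)).ncard = (N G a b x).ncard := by
  rw [N_smul]
  exact Set.ncard_image_of_injective _ (MulAction.injective g)

theorem ncard_N_eq [IsPretransitive G Ω] (a b x : Ω) : (N G a b x).ncard = val G a b := by
  obtain ⟨g, rfl⟩ := exists_smul_eq G a x
  exact ncard_N_smul g a b a

theorem N_congr {a b c d : Ω} (h : R G a b c d) (x : Ω) : N G a b x = N G c d x := by
  ext z
  simp only [mem_N]
  exact ⟨fun h' => R_trans (R_symm h) h', fun h' => R_trans h h'⟩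

theorem val_congr [IsPretransitive G Ω] {a b c d : Ω} (h : R G a b c d) : val G a b = val G c d := by
  rw [← ncard_N_eq a b c, N_congr h]
  rfl

theorem D_symm (x y : Ω) : D G x y = D G y x := by
  ext z
  simp only [mem_D]
  exact not_congr ⟨R_symm, R_symm⟩

theorem D_triangle (x w y : Ω) : D G x y ⊆ D G x w ∪ D G w y := by
  intro z hz
  by_contra hcon
  simp only [Set.mem_union, mem_D, not_or, not_not] at hcon
  exact hz (R_trans hcon.1 hcon.2)

theorem D_smul (g : G) (x y : Ω) : D G (g • x) (g • y) = (fun z => g • z) '' D G x y := by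
  ext z
  simp only [mem_D, Set.mem_image]
  constructor
  · intro h
    refine ⟨g⁻¹ • z, ?_, smul_inv_smul g z⟩
    intro h'
    apply h
    have h1 := (R_smul_iff g x (g⁻¹ • z) y (g⁻¹ • z)).mpr h'
    rw [smul_inv_smul] at h1
    have h2 := (R_smul_left_iff g x (g⁻¹ • z) (g • y) z).mpr h1
    rwa [smul_inv_smul] at h2
  · rintro ⟨w, hw, rfl⟩ h
    apply hw
    have h1 := (R_smul_iff g (g • x) (g • w) y w).mp h
    exact (R_smul_left_iff g x w y w).mp h1

theorem ncard_D_smul (g : G) (x y : Ω) : (D G (g • x) (g • y)).ncard = (D G x y).ncard := by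
  rw [D_smul]
  exact Set.ncard_image_of_injective _ (MulAction.injective g)

theorem ncard_D_congr {x y u v : Ω} (h : R G x y u v) : (D G u v).ncard = (D G x y).ncard := by
  obtain ⟨g, rfl, rfl⟩ := h
  exact ncard_D_smul g x y

theorem self_mem_D {x y : Ω} (h : x ≠ y) : x ∈ D G x y := by
  intro h'
  exact h ((R_eq_iff h').mp rfl).symm

theorem D_self (x : Ω) : D G x x = ∅ := by
  ext z
  simp only [mem_D, Set.mem_empty_iff_false, iff_false, not_not]
  exact R_refl x z

/-- A point fixed by `g` does not distinguish `x` and `g • x`. -/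
theorem not_mem_D_of_fixed (g : G) (x z : Ω) (hz : g • z = z) : z ∉ D G x (g • x) := by
  intro h
  exact h ⟨g, rfl, hz⟩

end Cfsg.Agent.S5713L
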