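import Cfsg.Agent.Lib.S5713.Defs
import Cfsg.Agent.S0734

set_option autoImplicit false

namespace Cfsg.Agent.S5713L

open MulAction

variable {G : Type*} {Ω : Type*} [Group G] [MulAction G Ω]

/-- `N a a x = {x}`. -/
theorem N_diag (a x : Ω) [IsPretransitive G Ω] : N G a a x = {x} := by
  ext z
  simp only [mem_N, Set.mem_singleton_iff]
  constructor
  · intro h
    exact ((R_eq_iff h).mp rfl).symm
  · rintro rfl
    obtain ⟨g, hg⟩ := exists_smul_eq G a z
    exact ⟨g, hg, hg⟩

theorem val_diag (a : Ω) [IsPretransitive G Ω] : val G a a = 1 := by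
  unfold val
  rw [N_diag, Set.ncard_singleton]

open Classical in
/-- The orbital of `(a,b)` has `n · val a b` elements. -/
theorem card_orbital [Fintype Ω] [IsPretransitive G Ω] (a b : Ω) :
    ((Finset.univ : Finset (Ω × Ω)).filter (fun p => R G a b p.1 p.2)).card =
      Fintype.card Ω * val G a b := by
  rw [Finset.card_filter, ← Finset.univ_product_univ, Finset.sum_product]
  have : ∀ u ∈ (Finset.univ : Finset Ω),
      (∑ v : Ω, if R G a b (u, v).1 (u, v).2 then 1 else 0) = val G a b := by
    intro u _
    rw [← Finset.card_filter, ← ncard_N_eq a b u, ← Set.ncard_coe_finset]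
    congr 1
    ext z
    simp [mem_N]
  rw [Finset.sum_congr rfl this, Finset.sum_const, Finset.card_univ, smul_eq_mul]

theorem val_swap [Finite Ω] [IsPretransitive G Ω] (a b : Ω) : val G a b = val G b a := by
  classical
  have : Fintype Ω := Fintype.ofFinite Ω
  have h1 := card_orbital (G := G) a b
  have h2 := card_orbital (G := G) b a
  have h3 : ((Finset.univ : Finset (Ω × Ω)).filter (fun p => R G a b p.1 p.2)).card =
      ((Finset.univ : Finset (Ω × Ω)).filter (fun p => R G b a p.1 p.2)).card := by
    apply Finset.card_nbij' Prod.swap Prod.swap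
    · intro p hp
      simp only [Finset.coe_filter, Finset.mem_univ, true_and, Set.mem_ofPred_eq] at hp ⊢
      exact R_swap hp
    · intro p hp
      simp only [Finset.coe_filter, Finset.mem_univ, true_and, Set.mem_ofPred_eq] at hp ⊢
      exact R_swap hp
    · intro p _; simp
    · intro p _; simp
  rw [h1, h2] at h3
  have hpos : 0 < Fintype.card Ω := Fintype.card_pos_iff.mpr ⟨a⟩
  exact Nat.eq_of_mul_eq_mul_left hpos h3

open Classical in
theorem exists_D_ge [Finite Ω] [IsPretransitive G Ω] (u : Ω) (k : ℕ)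
    (hk : ∀ v, v ≠ u → val G u v ≤ k) (hn : 2 ≤ Nat.card Ω) :
    ∃ v, v ≠ u ∧ Nat.card Ω + 1 ≤ (D G u v).ncard + k := by
  have : Fintype Ω := Fintype.ofFinite Ω
  rw [Nat.card_eq_fintype_card] at hn ⊢
  set n := Fintype.card Ω with hn'
  by_contra hcon
  push Not at hcon
  -- every `D u v` is small
  have hsmall : ∀ v, v ≠ u → (D G u v).ncard + k ≤ n := fun v hv => by
    have := hcon v hv; omega
  -- some v ≠ u exists, so k ≤ n
  obtain ⟨v0, hv0⟩ : ∃ v0 : Ω, v0 ≠ u := by
    by_contra h
    push Not at h
    have : Fintype.card Ω ≤ 1 := Fintype.card_le_one_iff.mpr (fun a b => (h a).trans (h b).symm)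
    omega
  have hkn : k ≤ n := by have := hsmall v0 hv0; omega
  -- the double count
  have hcount : ∀ z : Ω, (Finset.univ.filter (fun v : Ω => ¬ R G u z v z)).card + val G u z = n := by
    intro z
    have h1 : val G u z = (Finset.univ.filter (fun v : Ω => R G u z v z)).card := by
      rw [val_swap u z, ← ncard_N_eq z u z, ← Set.ncard_coe_finset]
      congr 1
      ext v
      simp only [mem_N, Finset.coe_filter, Finset.mem_univ, true_and, Set.mem_ofPred_eq]
      exact ⟨R_swap, R_swap⟩
    rw [h1, add_comm, Finset.card_filter_add_card_filter_not, Finset.card_univ]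
  have hsum1 : ∑ z : Ω, ((Finset.univ.filter (fun v : Ω => ¬ R G u z v z)).card + val G u z) = n * n := by
    rw [Finset.sum_congr rfl (fun z _ => hcount z), Finset.sum_const, Finset.card_univ, smul_eq_mul]
  -- swap the order of summation
  have hsum2 : ∑ z : Ω, (Finset.univ.filter (fun v : Ω => ¬ R G u z v z)).card =
      ∑ v : Ω, (D G u v).ncard := by
    have h1 : ∀ z : Ω, (Finset.univ.filter (fun v : Ω => ¬ R G u z v z)).card =
        ∑ v : Ω, if ¬ R G u z v z then 1 else 0 := fun z => Finset.card_filter _ _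
    have h2 : ∀ v : Ω, (D G u v).ncard = ∑ z : Ω, if ¬ R G u z v z then 1 else 0 := by
      intro v
      rw [← Finset.card_filter, ← Set.ncard_coe_finset]
      congr 1
      ext z
      simp [mem_D]
    rw [Finset.sum_congr rfl (fun z _ => h1 z), Finset.sum_congr rfl (fun v _ => h2 v)]
    exact Finset.sum_comm
  -- bounds
  have hD : ∑ v : Ω, (D G u v).ncard ≤ (n - 1) * (n - k) := by
    rw [← Finset.sum_erase_add _ _ (Finset.mem_univ u), D_self, Set.ncard_empty, add_zero]
    calc ∑ v ∈ Finset.univ.erase u, (D G u v).ncard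
        ≤ ∑ _v ∈ Finset.univ.erase u, (n - k) := by
          apply Finset.sum_le_sum
          intro v hv
          have := hsmall v (Finset.ne_of_mem_erase hv)
          omega
      _ = (n - 1) * (n - k) := by
          rw [Finset.sum_const, Finset.card_erase_of_mem (Finset.mem_univ u), Finset.card_univ,
            smul_eq_mul]
  have hV : ∑ z : Ω, val G u z ≤ 1 + (n - 1) * k := by
    rw [← Finset.sum_erase_add _ _ (Finset.mem_univ u), val_diag, add_comm]
    apply Nat.add_le_add_left
    calc ∑ z ∈ Finset.univ.erase u, val G u z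
        ≤ ∑ _z ∈ Finset.univ.erase u, k := by
          apply Finset.sum_le_sum
          intro z hz
          exact hk z (Finset.ne_of_mem_erase hz)
      _ = (n - 1) * k := by
          rw [Finset.sum_const, Finset.card_erase_of_mem (Finset.mem_univ u), Finset.card_univ,
            smul_eq_mul]
  rw [Finset.sum_add_distrib, hsum2] at hsum1
  have hfinal : n * n ≤ (n - 1) * (n - k) + (1 + (n - 1) * k) := by
    rw [← hsum1]; exact Nat.add_le_add hD hV
  have h5 : (n - 1) * (n - k) + (n - 1) * k = (n - 1) * n := by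
    rw [← Nat.mul_add, Nat.sub_add_cancel hkn]
  have h6 : n * n ≤ (n - 1) * n + 1 := by omega
  obtain ⟨t, ht⟩ : ∃ t, n = t + 2 := ⟨n - 2, by omega⟩
  rw [ht] at h6
  have : (t + 2 - 1) = t + 1 := by omega
  rw [this] at h6
  nlinarith

variable (G) in
/-- Adjacency in the (symmetrised) orbital graph of `(x,y)`. -/
def Adj (x y u w : Ω) : Prop := u ≠ w ∧ (R G x y u w ∨ R G x y w u)

theorem Adj.symm {x y u w : Ω} (h : Adj G x y u w) : Adj G x y w u :=
  ⟨h.1.symm, h.2.symm⟩

theorem ncard_D_of_adj {x y u w : Ω} (h : Adj G x y u w) : (D G u w).ncard = (D G x y).ncard := by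
  rcases h.2 with h' | h'
  · exact ncard_D_congr h'
  · rw [D_symm]; exact ncard_D_congr h'

theorem near [Finite Ω] {x y : Ω}
    (h : ∀ u w : Ω, u ≠ w → Adj G x y u w ∨ ∃ t, Adj G x y u t ∧ Adj G x y t w) (u w : Ω) :
    (D G u w).ncard ≤ 2 * (D G x y).ncard := by
  by_cases huw : u = w
  · subst huw
    rw [D_self, Set.ncard_empty]
    exact Nat.zero_le _
  · rcases h u w huw with h' | ⟨t, h1, h2⟩
    · rw [ncard_D_of_adj h']; omega
    · calc (D G u w).ncard ≤ (D G u t ∪ D G t w).ncard :=
            Set.ncard_le_ncard (D_triangle u t w) (Set.toFinite _)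
        _ ≤ (D G u t).ncard + (D G t w).ncard := Set.ncard_union_le _ _
        _ = 2 * (D G x y).ncard := by rw [ncard_D_of_adj h1, ncard_D_of_adj h2]; ring

/-- `u` and `w` are joined by a walk of length at most two. -/
def Close (x y u w : Ω) : Prop :=
  u = w ∨ Adj G x y u w ∨ ∃ t, Adj G x y u t ∧ Adj G x y t w

/-- From a pair that is not close, joined by a walk, extract a pair at distance exactly three. -/
theorem exists_dist_three {x y : Ω} :
    ∀ (n : ℕ) (u w : Ω)
      (p : (SimpleGraph.fromRel fun a b : Ω => ∃ g : G, g • x = a ∧ g • y = b).Walk u w),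
      p.length = n → ¬ Close (G := G) x y u w →
      ∃ u' a b c : Ω, Adj G x y u' a ∧ Adj G x y a b ∧ Adj G x y b c ∧ ¬ Close (G := G) x y u' c := by
  intro n
  induction n using Nat.strong_induction_on with
  | _ n ih =>
    intro u w p hp hbad
    have hadj : ∀ {a b : Ω}, (SimpleGraph.fromRel fun a b : Ω => ∃ g : G, g • x = a ∧ g • y = b).Adj a b →
        Adj G x y a b := by
      intro a b hab
      rw [SimpleGraph.fromRel_adj] at hab
      exact hab
    have hadj' : ∀ {a b : Ω}, Adj G x y a b →
        (SimpleGraph.fromRel fun a b : Ω => ∃ g : G, g • x = a ∧ g • y = b).Adj a b := by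
      intro a b hab
      rw [SimpleGraph.fromRel_adj]
      exact hab
    match p, hp with
    | .nil, _ => exact absurd (Or.inl rfl) hbad
    | .cons h1 .nil, _ => exact absurd (Or.inr (Or.inl (hadj h1))) hbad
    | .cons h1 (.cons h2 .nil), _ =>
      exact absurd (Or.inr (Or.inr ⟨_, hadj h1, hadj h2⟩)) hbad
    | .cons (v := a) h1 (.cons (v := b) h2 (.cons (v := c) h3 q)), hp =>
      by_cases hc : Close (G := G) x y u c
      · -- shortcut
        simp only [SimpleGraph.Walk.length_cons] at hp
        rcases hc with rfl | hc | ⟨t, ht1, ht2⟩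
        · exact ih q.length (by omega) u w q rfl hbad
        · exact ih (q.length + 1) (by omega) u w (.cons (hadj' hc) q)
            (by simp) hbad
        · exact ih (q.length + 2) (by omega) u w (.cons (hadj' ht1) (.cons (hadj' ht2) q))
            (by simp) hbad
      · exact ⟨u, a, b, c, hadj h1, hadj h2, hadj h3, hc⟩

theorem far [Finite Ω] [IsPreprimitive G Ω] {x y : Ω} (hxy : x ≠ y)
    (h : ¬ ∀ u w : Ω, u ≠ w → Adj G x y u w ∨ ∃ t, Adj G x y u t ∧ Adj G x y t w) :
    2 * val G x y ≤ 3 * (D G x y).ncard := by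
  push Not at h
  obtain ⟨u0, w0, huw, h1, h2⟩ := h
  have hbad0 : ¬ Close (G := G) x y u0 w0 := by
    rintro (h' | h' | ⟨t, ht1, ht2⟩)
    · exact huw h'
    · exact h1 h'
    · exact h2 t ht1 ht2
  have : Nontrivial Ω := ⟨⟨x, y, hxy⟩⟩
  have hconn := (Cfsg.Agent.S0734.result (G := G) (Ω := Ω)).mp inferInstance x y hxy
  obtain ⟨p⟩ := hconn.preconnected u0 w0
  obtain ⟨u, a, b, c, hua, hab, hbc, hbad⟩ := exists_dist_three p.length u0 w0 p rfl hbad0
  -- the neighbourhoods of u and c are disjoint
  have hdisj : Disjoint (N G x y u) (N G x y c) := by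
    rw [Set.disjoint_left]
    intro z hz1 hz2
    apply hbad
    right; right
    refine ⟨z, ⟨?_, Or.inl hz1⟩, ⟨?_, Or.inr hz2⟩⟩
    · intro e
      exact hxy ((R_eq_iff hz1).mpr e)
    · intro e
      exact hxy ((R_eq_iff hz2).mpr e.symm)
  have hsub : N G x y u ∪ N G x y c ⊆ D G u c := by
    rintro z (hz | hz)
    · intro hR
      exact Set.disjoint_left.mp hdisj hz (R_trans hz hR)
    · intro hR
      exact Set.disjoint_left.mp hdisj (R_trans hz (R_symm hR)) hz
  have h3 : 2 * val G x y ≤ (D G u c).ncard := by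
    calc 2 * val G x y = (N G x y u).ncard + (N G x y c).ncard := by
          rw [ncard_N_eq, ncard_N_eq]; ring
      _ = (N G x y u ∪ N G x y c).ncard :=
          (Set.ncard_union_eq hdisj (Set.toFinite _) (Set.toFinite _)).symm
      _ ≤ (D G u c).ncard := Set.ncard_le_ncard hsub (Set.toFinite _)
  have h4 : (D G u c).ncard ≤ 3 * (D G x y).ncard := by
    calc (D G u c).ncard ≤ (D G u a ∪ D G a c).ncard :=
          Set.ncard_le_ncard (D_triangle u a c) (Set.toFinite _)
      _ ≤ (D G u a).ncard + (D G a c).ncard := Set.ncard_union_le _ _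
      _ ≤ (D G u a).ncard + ((D G a b).ncard + (D G b c).ncard) := by
          apply Nat.add_le_add_left
          exact (Set.ncard_le_ncard (D_triangle a b c) (Set.toFinite _)).trans
            (Set.ncard_union_le _ _)
      _ = 3 * (D G x y).ncard := by
          rw [ncard_D_of_adj hua, ncard_D_of_adj hab, ncard_D_of_adj hbc]; ring
  exact h3.trans h4

end Cfsg.Agent.S5713L
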