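import Mathlib

set_option autoImplicit false

namespace Cfsg.Agent.S5713L

open Equiv Equiv.Perm

variable {Ω : Type*}

theorem ais (g : Perm Ω) (x : Ω) : g (g⁻¹ x) = x := by simp

theorem ias (g : Perm Ω) (x : Ω) : g⁻¹ (g x) = x := by simp

variable [Fintype Ω] [DecidableEq Ω]

/-- If the supports of `g` and `h` meet in exactly one point, the commutator is a 3-cycle. -/
theorem isThreeCycle_commutator (g h : Perm Ω) (α : Ω)
    (hg : g α ≠ α) (hh : h α ≠ α)
    (hdisj : ∀ ω, g ω ≠ ω → h ω ≠ ω → ω = α) :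
    (g * h * g⁻¹ * h⁻¹).IsThreeCycle := by
  -- basic facts
  have gS : ∀ ω, g ω ≠ ω → g (g ω) ≠ g ω := fun ω hω h' => hω (g.injective h')
  have hS : ∀ ω, h ω ≠ ω → h (h ω) ≠ h ω := fun ω hω h' => hω (h.injective h')
  have gSi : ∀ ω, g ω ≠ ω → g (g⁻¹ ω) ≠ g⁻¹ ω := by
    intro ω hω h'
    apply hω
    rw [ais] at h'
    have := congrArg g h'
    rw [ais] at this
    exact this
  have hSi : ∀ ω, h ω ≠ ω → h (h⁻¹ ω) ≠ h⁻¹ ω := by
    intro ω hω h'
    apply hω
    rw [ais] at h'
    have := congrArg h h'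
    rw [ais] at this
    exact this
  have gfix : ∀ ω, g ω = ω → g⁻¹ ω = ω := fun ω hω => by
    rw [Perm.inv_eq_iff_eq]; exact hω.symm
  have hfix : ∀ ω, h ω = ω → h⁻¹ ω = ω := fun ω hω => by
    rw [Perm.inv_eq_iff_eq]; exact hω.symm
  -- h fixes points of supp g other than α, and conversely
  have hg_of : ∀ ω, g ω ≠ ω → ω ≠ α → h ω = ω := by
    intro ω h1 h2
    by_contra h3
    exact h2 (hdisj ω h1 h3)
  have gh_of : ∀ ω, h ω ≠ ω → ω ≠ α → g ω = ω := by
    intro ω h1 h2
    by_contra h3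
    exact h2 (hdisj ω h3 h1)
  have hgα_ne : g α ≠ α := hg
  have hhα_ne : h α ≠ α := hh
  have hne : g α ≠ h α := by
    intro e
    have h1 : h (g α) = g α := hg_of (g α) (gS α hg) hg
    rw [e] at h1
    exact hS α hh h1
  set τ := g * h * g⁻¹ * h⁻¹ with hτ
  have ev : ∀ ω, τ ω = g (h (g⁻¹ (h⁻¹ ω))) := fun ω => by
    simp [hτ, Perm.mul_apply]
  -- values
  have v1 : τ α = g α := by
    rw [ev]
    have hu : h (h⁻¹ α) ≠ h⁻¹ α := hSi α hh
    have hu' : h⁻¹ α ≠ α := by
      intro e
      apply hh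
      have := congrArg h e
      rw [ais] at this
      exact this.symm
    have h1 : g (h⁻¹ α) = h⁻¹ α := gh_of _ hu hu'
    rw [gfix _ h1, ais]
  have v2 : τ (g α) = h α := by
    rw [ev]
    have h1 : h (g α) = g α := hg_of (g α) (gS α hg) hg
    rw [hfix _ h1, ias]
    exact gh_of (h α) (hS α hh) hh
  have v3 : τ (h α) = α := by
    rw [ev, ias]
    have hv : g (g⁻¹ α) ≠ g⁻¹ α := gSi α hg
    have hv' : g⁻¹ α ≠ α := by
      intro e
      apply hg
      have := congrArg g e
      rw [ais] at this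
      exact this.symm
    have h1 : h (g⁻¹ α) = g⁻¹ α := hg_of _ hv hv'
    rw [h1, ais]
  have v4 : ∀ ω, ω ≠ α → ω ≠ g α → ω ≠ h α → τ ω = ω := by
    intro ω h1 h2 h3
    rw [ev]
    by_cases hT : h ω = ω
    · rw [hfix ω hT]
      by_cases hSω : g ω = ω
      · rw [gfix ω hSω, hT, hSω]
      · have hv : g (g⁻¹ ω) ≠ g⁻¹ ω := gSi ω hSω
        have hv' : g⁻¹ ω ≠ α := by
          intro e
          apply h2
          have := congrArg g e
          rw [ais] at this
          exact this
        rw [hg_of _ hv hv', ais]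
    · have hu : h (h⁻¹ ω) ≠ h⁻¹ ω := hSi ω hT
      have hu' : h⁻¹ ω ≠ α := by
        intro e
        apply h3
        have := congrArg h e
        rw [ais] at this
        exact this
      have h4 : g (h⁻¹ ω) = h⁻¹ ω := gh_of _ hu hu'
      rw [gfix _ h4, ais]
      exact gh_of ω hT h1
  rw [← card_support_eq_three_iff]
  have hsupp : τ.support = {α, g α, h α} := by
    ext ω
    simp only [Perm.mem_support, Finset.mem_insert, Finset.mem_singleton]
    constructor
    · intro hω
      by_contra hcon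
      push Not at hcon
      exact hω (v4 ω hcon.1 hcon.2.1 hcon.2.2)
    · rintro (rfl | rfl | rfl)
      · rw [v1]; exact hg
      · rw [v2]; exact hne.symm
      · rw [v3]; exact hh.symm
  rw [hsupp]
  rw [Finset.card_insert_of_notMem, Finset.card_insert_of_notMem, Finset.card_singleton]
  · simpa using hne
  · simp only [Finset.mem_insert, Finset.mem_singleton, not_or]
    exact ⟨hg.symm, hh.symm⟩

open Classical in
/-- Fibres of `z ↦ (z α, z β)` on a 2-transitive group all have the size of the two-point stabilizer. -/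
theorem card_fiber (H : Subgroup (Perm Ω))
    (h2 : ∀ a b c d : Ω, a ≠ b → c ≠ d → ∃ h ∈ H, h a = c ∧ h b = d)
    {α β : Ω} (hαβ : α ≠ β) {σ τ : Ω} (hστ : σ ≠ τ) :
    ((Finset.univ.filter (fun z : Perm Ω => z ∈ H)).filter (fun z => z α = σ ∧ z β = τ)).card =
    ((Finset.univ.filter (fun z : Perm Ω => z ∈ H)).filter (fun z => z α = α ∧ z β = β)).card := by
  obtain ⟨y, hyH, hy1, hy2⟩ := h2 α β σ τ hαβ hστ
  symm
  apply Finset.card_nbij' (fun k => y * k) (fun z => y⁻¹ * z)
  · intro k hk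
    simp only [Finset.coe_filter, Finset.mem_filter, Finset.mem_univ, true_and, Set.mem_ofPred_eq] at hk ⊢
    refine ⟨H.mul_mem hyH hk.1, ?_, ?_⟩
    · rw [Perm.mul_apply, hk.2.1, hy1]
    · rw [Perm.mul_apply, hk.2.2, hy2]
  · intro z hz
    simp only [Finset.coe_filter, Finset.mem_filter, Finset.mem_univ, true_and, Set.mem_ofPred_eq] at hz ⊢
    refine ⟨H.mul_mem (H.inv_mem hyH) hz.1, ?_, ?_⟩
    · rw [Perm.mul_apply, hz.2.1, ← hy1]; simp
    · rw [Perm.mul_apply, hz.2.2, ← hy2]; simp
  · intro k _; simp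
  · intro z _; simp

open Classical in
theorem card_pairs (S : Finset Ω) :
    ((S ×ˢ (Finset.univ : Finset Ω)).filter (fun p => p.1 ≠ p.2)).card = S.card * (Fintype.card Ω - 1) := by
  rw [Finset.card_filter, Finset.sum_product]
  have : ∀ σ ∈ S, (∑ τ : Ω, if (σ, τ).1 ≠ (σ, τ).2 then 1 else 0) = Fintype.card Ω - 1 := by
    intro σ _
    rw [← Finset.card_filter]
    have h1 : (Finset.univ.filter (fun τ : Ω => (σ, τ).1 ≠ (σ, τ).2)) = Finset.univ.erase σ := by
      ext τ
      simp [eq_comm]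
    rw [h1, Finset.card_erase_of_mem (Finset.mem_univ _), Finset.card_univ]
  rw [Finset.sum_congr rfl this, Finset.sum_const, smul_eq_mul]

open Classical in
/-- In a 2-transitive group, a set `S` with `(|S|-1)^2 < n - 1` has a translate meeting it exactly in a
prescribed point. -/
theorem exists_good (H : Subgroup (Perm Ω))
    (h2 : ∀ a b c d : Ω, a ≠ b → c ≠ d → ∃ h ∈ H, h a = c ∧ h b = d)
    (S : Finset Ω) (α : Ω) (hα : α ∈ S) (hlt : (S.card - 1) ^ 2 < Fintype.card Ω - 1) :
    ∃ z ∈ H, z α ∈ S ∧ ∀ β ∈ S, β ≠ α → z β ∉ S := by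
  by_contra hcon
  push Not at hcon
  set Hf : Finset (Perm Ω) := Finset.univ.filter (fun z : Perm Ω => z ∈ H) with hHf
  set P : Finset (Perm Ω) := Hf.filter (fun z => z α ∈ S) with hP
  set Q : Ω → Finset (Perm Ω) := fun β => P.filter (fun z => z β ∈ S) with hQ
  have hPpos : 0 < P.card := by
    apply Finset.card_pos.mpr
    refine ⟨1, ?_⟩
    simp [hP, hHf, H.one_mem, hα]
  -- cover
  have hcover : P ⊆ (S.erase α).biUnion Q := by
    intro z hz
    have hz' : z ∈ H ∧ z α ∈ S := by
      simpa [hP, hHf] using hz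
    obtain ⟨β, hβS, hβα, hzβ⟩ := hcon z hz'.1 hz'.2
    rw [Finset.mem_biUnion]
    refine ⟨β, Finset.mem_erase.mpr ⟨hβα, hβS⟩, ?_⟩
    simp only [hQ, Finset.mem_filter]
    exact ⟨hz, hzβ⟩
  -- counting
  have hcount : ∀ β ∈ S.erase α, (Q β).card * (Fintype.card Ω - 1) = P.card * (S.card - 1) := by
    intro β hβ
    have hβα : α ≠ β := (Finset.mem_erase.mp hβ).1.symm
    set K := (Hf.filter (fun z => z α = α ∧ z β = β)).card with hK
    have hPcard : P.card = S.card * (Fintype.card Ω - 1) * K := by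
      have hmaps : ∀ z ∈ P, (fun z : Perm Ω => (z α, z β)) z ∈
          ((S ×ˢ (Finset.univ : Finset Ω)).filter (fun p => p.1 ≠ p.2)) := by
        intro z hz
        simp only [hP, Finset.mem_filter] at hz
        simp only [Finset.mem_filter, Finset.mem_product, Finset.mem_univ, and_true]
        exact ⟨hz.2, fun e => hβα (z.injective e)⟩
      rw [Finset.card_eq_sum_card_fiberwise hmaps]
      have : ∀ p ∈ ((S ×ˢ (Finset.univ : Finset Ω)).filter (fun p => p.1 ≠ p.2)),
          (P.filter (fun z => (z α, z β) = p)).card = K := by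
        intro p hp
        simp only [Finset.mem_filter, Finset.mem_product, Finset.mem_univ, and_true] at hp
        rw [hK, ← card_fiber H h2 hβα hp.2]
        congr 1
        ext z
        simp only [hP, hHf, Finset.mem_filter, Prod.ext_iff, Finset.mem_univ, true_and]
        constructor
        · rintro ⟨⟨h1, _⟩, h3, h4⟩
          exact ⟨h1, h3, h4⟩
        · rintro ⟨h1, h3, h4⟩
          exact ⟨⟨h1, h3 ▸ hp.1⟩, h3, h4⟩
      rw [Finset.sum_congr rfl this, Finset.sum_const, smul_eq_mul, card_pairs]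
    have hQcard : (Q β).card = S.card * (S.card - 1) * K := by
      have hmaps : ∀ z ∈ Q β, (fun z : Perm Ω => (z α, z β)) z ∈ S.offDiag := by
        intro z hz
        simp only [hQ, hP, Finset.mem_filter] at hz
        simp only [Finset.mem_offDiag]
        exact ⟨hz.1.2, hz.2, fun e => hβα (z.injective e)⟩
      rw [Finset.card_eq_sum_card_fiberwise hmaps]
      have : ∀ p ∈ S.offDiag, ((Q β).filter (fun z => (z α, z β) = p)).card = K := by
        intro p hp
        simp only [Finset.mem_offDiag] at hp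
        rw [hK, ← card_fiber H h2 hβα hp.2.2]
        congr 1
        ext z
        simp only [hQ, hP, hHf, Finset.mem_filter, Prod.ext_iff, Finset.mem_univ, true_and]
        constructor
        · rintro ⟨⟨⟨h1, _⟩, _⟩, h3, h4⟩
          exact ⟨h1, h3, h4⟩
        · rintro ⟨h1, h3, h4⟩
          exact ⟨⟨⟨h1, h3 ▸ hp.1⟩, h4 ▸ hp.2.1⟩, h3, h4⟩
      rw [Finset.sum_congr rfl this, Finset.sum_const, smul_eq_mul, Finset.offDiag_card]
      have : S.card * S.card - S.card = S.card * (S.card - 1) := by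
        rw [Nat.mul_sub, mul_one]
      rw [this]
    rw [hPcard, hQcard]
    ring
  have h1 : P.card ≤ ∑ β ∈ S.erase α, (Q β).card :=
    (Finset.card_le_card hcover).trans Finset.card_biUnion_le
  have h2' : P.card * (Fintype.card Ω - 1) ≤ P.card * (S.card - 1) ^ 2 := by
    calc P.card * (Fintype.card Ω - 1)
        ≤ (∑ β ∈ S.erase α, (Q β).card) * (Fintype.card Ω - 1) := Nat.mul_le_mul_right _ h1
      _ = ∑ β ∈ S.erase α, (Q β).card * (Fintype.card Ω - 1) := Finset.sum_mul _ _ _
      _ = ∑ β ∈ S.erase α, P.card * (S.card - 1) := Finset.sum_congr rfl hcount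
      _ = (S.card - 1) * (P.card * (S.card - 1)) := by
          rw [Finset.sum_const, Finset.card_erase_of_mem hα, smul_eq_mul]
      _ = P.card * (S.card - 1) ^ 2 := by ring
  have h3 : Fintype.card Ω - 1 ≤ (S.card - 1) ^ 2 := Nat.le_of_mul_le_mul_left h2' hPpos
  omega


/-- **Part A.** A 2-transitive primitive group not containing the alternating group: every non-identity element
has support `s` with `(s - 1)^2 ≥ n - 1`. -/
theorem two_trans_case (H : Subgroup (Perm Ω)) [hprim : MulAction.IsPreprimitive H Ω]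
    (hA : ¬ alternatingGroup Ω ≤ H)
    (h2 : ∀ a b c d : Ω, a ≠ b → c ≠ d → ∃ h ∈ H, h a = c ∧ h b = d)
    (σ : Perm Ω) (hσ : σ ∈ H) (h1 : σ ≠ 1) :
    Fintype.card Ω - 1 ≤ (σ.support.card - 1) ^ 2 := by
  by_contra hlt
  push Not at hlt
  obtain ⟨α, hα⟩ : ∃ α, σ α ≠ α := by
    by_contra hcon
    push Not at hcon
    exact h1 (Perm.ext hcon)
  have hαS : α ∈ σ.support := Perm.mem_support.mpr hα
  obtain ⟨z, hzH, hzα, hz⟩ := exists_good H h2 σ.support α hαS hlt
  set h : Perm Ω := z⁻¹ * σ * z with hh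
  have hhH : h ∈ H := H.mul_mem (H.mul_mem (H.inv_mem hzH) hσ) hzH
  have hmove : ∀ ω, h ω ≠ ω ↔ z ω ∈ σ.support := by
    intro ω
    rw [Perm.mem_support, hh]
    simp only [Perm.mul_apply]
    constructor
    · intro h' e
      apply h'
      rw [e, ias]
    · intro h' e
      apply h'
      have := congrArg z e
      rwa [ais] at this
  have h3 : (σ * h * σ⁻¹ * h⁻¹).IsThreeCycle := by
    apply isThreeCycle_commutator σ h α hα ((hmove α).mpr hzα)
    intro ω hω1 hω2
    by_contra hne
    exact hz ω (Perm.mem_support.mpr hω1) hne ((hmove ω).mp hω2)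
  have h4 : σ * h * σ⁻¹ * h⁻¹ ∈ H :=
    H.mul_mem (H.mul_mem (H.mul_mem hσ hhH) (H.inv_mem hσ)) (H.inv_mem hhH)
  exact hA (alternatingGroup_le_of_isPreprimitive_of_isThreeCycle_mem hprim h3 h4)

end Cfsg.Agent.S5713L
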