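import Cfsg.Agent.Lib.S5713.PA
import Cfsg.Agent.Lib.S5713.PB
import Cfsg.Agent.Lib.S5713.PartA

set_option autoImplicit false

namespace Cfsg.Agent.S5713L

open MulAction

variable {G : Type*} {Ω : Type*} [Group G] [MulAction G Ω]

/-- If every point-stabilizer is transitive on the remaining points along the orbital of `(a,b)`,
the group is 2-transitive. -/
theorem two_trans_of_forall_R [IsPretransitive G Ω] {a b : Ω}
    (h : ∀ c, c ≠ a → R G a b a c) :
    ∀ p q r s : Ω, p ≠ q → r ≠ s → ∃ g : G, g • p = r ∧ g • q = s := by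
  intro p q r s hpq hrs
  obtain ⟨g1, hg1⟩ := exists_smul_eq G p a
  obtain ⟨g2, hg2⟩ := exists_smul_eq G r a
  have h1 : g1 • q ≠ a := by
    intro e
    rw [← hg1] at e
    exact hpq (MulAction.injective g1 e).symm
  have h2 : g2 • s ≠ a := by
    intro e
    rw [← hg2] at e
    exact hrs (MulAction.injective g2 e).symm
  obtain ⟨k1, hk1, hk1'⟩ := h _ h1
  obtain ⟨k2, hk2, hk2'⟩ := h _ h2
  refine ⟨g2⁻¹ * k2 * k1⁻¹ * g1, ?_, ?_⟩
  · rw [mul_smul, mul_smul, mul_smul, hg1]
    have : k1⁻¹ • a = a := by rw [inv_smul_eq_iff, hk1]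
    rw [this, hk2, inv_smul_eq_iff, hg2]
  · rw [mul_smul, mul_smul, mul_smul]
    have : k1⁻¹ • g1 • q = b := by rw [inv_smul_eq_iff, hk1']
    rw [this, hk2', inv_smul_smul]

/-- **Part B.** In a primitive, not 2-transitive group every pair of distinct points is distinguished by
at least `(√n - 1)/2` points. -/
theorem D_lower_bound [Finite Ω] [IsPreprimitive G Ω]
    (hnot2 : ¬ ∀ a b c d : Ω, a ≠ b → c ≠ d → ∃ h : G, h • a = c ∧ h • b = d)
    {x y : Ω} (hxy : x ≠ y) :
    (Real.sqrt (Nat.card Ω) - 1) / 2 ≤ ((D G x y).ncard : ℝ) := by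
  classical
  have : Fintype Ω := Fintype.ofFinite Ω
  set n := Nat.card Ω with hn
  set δ := (D G x y).ncard with hδ
  set a := val G x y with ha
  set r := Real.sqrt (n : ℝ) with hr
  have hr0 : 0 ≤ r := Real.sqrt_nonneg _
  have hr2 : r * r = (n : ℝ) := Real.mul_self_sqrt (Nat.cast_nonneg n)
  have hn2 : 2 ≤ n := by
    rw [hn, Nat.card_eq_fintype_card]
    exact Fintype.one_lt_card_iff.mpr ⟨x, y, hxy⟩
  have hP4 : n ≤ δ * a := card_le_D_mul_val hxy
  -- a pair of maximal valency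
  obtain ⟨p, hpmem, hpmax⟩ := Finset.exists_max_image
    ((Finset.univ : Finset (Ω × Ω)).filter (fun p => p.1 ≠ p.2)) (fun p => val G p.1 p.2)
    ⟨(x, y), by simp [hxy]⟩
  obtain ⟨a0, b0⟩ := p
  simp only [Finset.mem_filter, Finset.mem_univ, true_and] at hpmem
  set k := val G a0 b0 with hk
  have hkmax : ∀ u v : Ω, v ≠ u → val G u v ≤ k := by
    intro u v huv
    exact hpmax (u, v) (by simp [huv.symm])
  by_cases hnear : ∀ u w : Ω, u ≠ w → Adj G x y u w ∨ ∃ t, Adj G x y u t ∧ Adj G x y t w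
  · -- near case
    obtain ⟨v, hvx, hv⟩ := exists_D_ge (G := G) x k (fun v hv => hkmax x v hv) hn2
    have h2δ : (D G x v).ncard ≤ 2 * δ := near hnear x v
    have hkey : n + 1 ≤ 2 * δ + k := by omega
    by_cases hk2 : 2 * k ≤ n - 1
    · -- 4 δ ≥ n + 3
      have h4 : n + 3 ≤ 4 * δ := by omega
      have h4' : (n : ℝ) + 3 ≤ 4 * (δ : ℝ) := by exact_mod_cast h4
      nlinarith [sq_nonneg (r - 1)]
    · push Not at hk2
      have hc : ∃ c, c ≠ a0 ∧ ¬ R G a0 b0 a0 c := by
        by_contra hcon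
        push Not at hcon
        exact hnot2 (two_trans_of_forall_R hcon)
      have hL7 := val_le_of_big (G := G) hpmem hk2 hc
      set m := n - 1 - k with hm
      have hkn : k ≤ n - 1 := by
        have h1 : (N G a0 b0 a0).ncard ≤ ((Set.univ : Set Ω) \ {a0}).ncard := by
          apply Set.ncard_le_ncard _ (Set.toFinite _)
          intro z hz
          simp only [Set.mem_sdiff, Set.mem_univ, Set.mem_singleton_iff, true_and]
          intro e
          rw [e] at hz
          exact hpmem ((R_eq_iff hz).mpr rfl)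
        rw [Set.ncard_sdiff_singleton_of_mem (Set.mem_univ a0), Set.ncard_univ] at h1
        exact h1
      have hm2 : m + 2 ≤ 2 * δ := by omega
      have hm2' : (m : ℝ) + 2 ≤ 2 * (δ : ℝ) := by exact_mod_cast hm2
      have hL7' : (n : ℝ) - 1 ≤ (m : ℝ) ^ 2 := by
        have : ((n - 1 : ℕ) : ℝ) ≤ ((m ^ 2 : ℕ) : ℝ) := by exact_mod_cast hL7
        rw [Nat.cast_sub (by omega)] at this
        simpa using this
      have hm0 : (0 : ℝ) ≤ m := Nat.cast_nonneg m
      -- r - 1 ≤ m
      have hrm : r - 1 ≤ m := by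
        by_contra hcon
        push Not at hcon
        have hn' : (2 : ℝ) ≤ n := by exact_mod_cast hn2
        have hr1 : 1 ≤ r := by nlinarith
        nlinarith
      linarith
  · -- far case
    have hfar : 2 * a ≤ 3 * δ := far hxy hnear
    have h1 : (n : ℝ) ≤ (δ : ℝ) * a := by exact_mod_cast hP4
    have h2 : 2 * (a : ℝ) ≤ 3 * δ := by exact_mod_cast hfar
    have hδ0 : (0 : ℝ) ≤ δ := Nat.cast_nonneg δ
    have ha0 : (0 : ℝ) ≤ a := Nat.cast_nonneg a
    -- 2 n ≤ 2 δ a ≤ 3 δ^2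
    have h3 : 2 * (n : ℝ) ≤ 3 * (δ : ℝ) ^ 2 := by nlinarith
    by_contra hcon
    push Not at hcon
    have h4 : 2 * (δ : ℝ) < r - 1 := by linarith
    nlinarith


open Equiv in
/-- **Babai's bound** for a primitive subgroup of `Perm Ω` not containing the alternating group. -/
theorem core {Ω : Type*} [Fintype Ω] [DecidableEq Ω] (H : Subgroup (Perm Ω))
    [hprim : IsPreprimitive H Ω] (hA : ¬ alternatingGroup Ω ≤ H)
    (σ : Perm Ω) (hσ : σ ∈ H) (h1 : σ ≠ 1) :
    (Real.sqrt (Fintype.card Ω) - 1) / 2 ≤ (σ.support.card : ℝ) := by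
  classical
  set n := Fintype.card Ω with hn
  set s := σ.support.card with hs
  set r := Real.sqrt (n : ℝ) with hr
  have hr0 : 0 ≤ r := Real.sqrt_nonneg _
  have hr2 : r * r = (n : ℝ) := Real.mul_self_sqrt (Nat.cast_nonneg n)
  obtain ⟨α, hα⟩ : ∃ α, σ α ≠ α := by
    by_contra hcon
    push Not at hcon
    exact h1 (Perm.ext hcon)
  have hs1 : 1 ≤ s := Finset.card_pos.mpr ⟨α, Perm.mem_support.mpr hα⟩
  by_cases h2 : ∀ a b c d : Ω, a ≠ b → c ≠ d → ∃ h : H, h • a = c ∧ h • b = d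
  · have h2' : ∀ a b c d : Ω, a ≠ b → c ≠ d → ∃ h ∈ H, h a = c ∧ h b = d := by
      intro a b c d hab hcd
      obtain ⟨h, h3, h4⟩ := h2 a b c d hab hcd
      exact ⟨h.1, h.2, h3, h4⟩
    have hA' : n - 1 ≤ (s - 1) ^ 2 := two_trans_case H hA h2' σ hσ h1
    have h3 : n ≤ (s - 1) ^ 2 + 1 := by omega
    have h4 : (s - 1) ^ 2 + 1 ≤ s ^ 2 := by
      obtain ⟨t, ht⟩ : ∃ t, s = t + 1 := ⟨s - 1, by omega⟩
      rw [ht]
      simp only [Nat.add_sub_cancel]
      nlinarith
    have h5 : (n : ℝ) ≤ (s : ℝ) ^ 2 := by exact_mod_cast h3.trans h4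
    have hs0 : (0 : ℝ) ≤ s := Nat.cast_nonneg s
    have hrs : r ≤ s := by
      by_contra hcon
      push Not at hcon
      nlinarith
    linarith
  · have hD := D_lower_bound (G := H) (Ω := Ω) h2 (x := α) (y := σ α) (Ne.symm hα)
    rw [Nat.card_eq_fintype_card] at hD
    have hsub : D H α (σ α) ⊆ (σ.support : Set Ω) := by
      intro z hz
      by_contra hzs
      have hfix : σ z = z := by
        simpa [Perm.mem_support] using hzs
      exact not_mem_D_of_fixed (⟨σ, hσ⟩ : H) α z hfix hz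
    have hle : (D H α (σ α)).ncard ≤ s := by
      have := Set.ncard_le_ncard hsub (Finset.finite_toSet _)
      rwa [Set.ncard_coe_finset] at this
    have hle' : ((D H α (σ α)).ncard : ℝ) ≤ (s : ℝ) := by exact_mod_cast hle
    linarith

end Cfsg.Agent.S5713L
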