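import Cfsg.Agent.Lib.S5713.PB

set_option autoImplicit false

namespace Cfsg.Agent.S5713L

open MulAction
open scoped Pointwise

variable {G : Type*} {Ω : Type*} [Group G] [MulAction G Ω]

theorem ncard_le_mul_of_cover [Finite Ω] (S T : Set Ω) (F : Ω → Set Ω) (c : ℕ)
    (hcov : S ⊆ ⋃ t ∈ T, F t) (hF : ∀ t ∈ T, (F t).ncard ≤ c) : S.ncard ≤ T.ncard * c := by
  classical
  have hT : T.Finite := Set.toFinite T
  have h1 : (⋃ t ∈ T, F t) = ⋃ t ∈ hT.toFinset, F t := by
    ext z
    simp
  calc S.ncard ≤ (⋃ t ∈ T, F t).ncard := Set.ncard_le_ncard hcov (Set.toFinite _)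
    _ = (⋃ t ∈ hT.toFinset, F t).ncard := by rw [h1]
    _ ≤ ∑ t ∈ hT.toFinset, (F t).ncard := Finset.set_ncard_biUnion_le _ _
    _ ≤ ∑ _t ∈ hT.toFinset, c := by
        apply Finset.sum_le_sum
        intro t ht
        exact hF t ((Set.Finite.mem_toFinset hT).mp ht)
    _ = T.ncard * c := by
        rw [Finset.sum_const, smul_eq_mul, Set.ncard_eq_toFinset_card T hT]

theorem N_nonempty [IsPretransitive G Ω] (a b x : Ω) : (N G a b x).Nonempty := by
  obtain ⟨g, rfl⟩ := exists_smul_eq G a x
  exact ⟨g • b, R_smul g a b⟩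

theorem N_ne [Finite Ω] [hprim : IsPreprimitive G Ω] {a b x y : Ω} (hab : a ≠ b) (hxy : x ≠ y) :
    N G a b x ≠ N G a b y := by
  intro hN
  set S := N G a b x with hS
  set B : Set Ω := {u | N G a b u = S} with hB
  have himg : ∀ (g : G) (u : Ω), u ∈ B → g • u ∈ B → (fun z => g • z) '' S = S := by
    intro g u hu hgu
    have h1 : N G a b (g • u) = S := hgu
    rw [N_smul, (hu : N G a b u = S)] at h1
    exact h1
  have hblock : IsBlock G B := by
    rw [isBlock_iff_smul_eq_of_mem]
    intro g u hu hgu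
    have hgS := himg g u hu hgu
    apply le_antisymm
    · rintro _ ⟨v, hv, rfl⟩
      show N G a b (g • v) = S
      rw [N_smul, (hv : N G a b v = S)]
      exact hgS
    · intro v hv
      refine ⟨g⁻¹ • v, ?_, smul_inv_smul g v⟩
      show N G a b (g⁻¹ • v) = S
      rw [N_smul, (hv : N G a b v = S)]
      conv_lhs => rw [← hgS]
      rw [Set.image_image]
      simp
  rcases hprim.isTrivialBlock_of_isBlock hblock with h | h
  · exact hxy (h (show x ∈ B from rfl) (show y ∈ B from hN.symm))
  · obtain ⟨z, hz⟩ := N_nonempty (G := G) a b x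
    have hzB : z ∈ B := by rw [h]; trivial
    have hzz : z ∈ N G a b z := by
      rw [(hzB : N G a b z = S)]
      exact hz
    exact hab ((R_eq_iff hzz).mpr rfl)

theorem card_le_D_mul_val [Finite Ω] [IsPreprimitive G Ω] {x y : Ω} (hxy : x ≠ y) :
    Nat.card Ω ≤ (D G x y).ncard * val G x y := by
  have hcover : ∀ z : Ω, ∃ y' ∈ N G x y x, z ∈ D G x y' := by
    intro z
    by_cases hzx : z = x
    · subst hzx
      exact ⟨y, R_refl _ _, self_mem_D hxy⟩
    · by_contra hcon
      push Not at hcon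
      have hsub : N G x z x ⊆ N G x z y := by
        intro w hw
        obtain ⟨h, hh1, hh2⟩ := hw
        have hy' : h⁻¹ • y ∈ N G x y x := ⟨h⁻¹, by rw [inv_smul_eq_iff, hh1], rfl⟩
        have h1 := hcon _ hy'
        rw [mem_D, not_not] at h1
        have h2 := (R_smul_iff h x z (h⁻¹ • y) z).mpr h1
        rw [smul_inv_smul, hh2] at h2
        exact h2
      have heq : N G x z x = N G x z y := by
        apply Set.eq_of_subset_of_ncard_le hsub _ (Set.toFinite _)
        rw [ncard_N_eq, ncard_N_eq]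
      exact N_ne (Ne.symm hzx) hxy heq
  have h1 : (Set.univ : Set Ω) ⊆ ⋃ y' ∈ N G x y x, D G x y' := by
    intro z _
    obtain ⟨y', hy', hz⟩ := hcover z
    exact Set.mem_biUnion hy' hz
  have h2 := ncard_le_mul_of_cover (Set.univ : Set Ω) (N G x y x) (fun y' => D G x y')
    (D G x y).ncard h1 (fun t ht => le_of_eq (ncard_D_congr ht))
  rw [Set.ncard_univ] at h2
  rw [mul_comm]
  exact h2

/-- The orbital of `(a,b)` is self-paired as soon as its valency exceeds `(n-1)/2`. -/
theorem R_self_paired [Finite Ω] [IsPretransitive G Ω] {a b : Ω} (hab : a ≠ b)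
    (hbig : Nat.card Ω - 1 < 2 * val G a b) : R G a b b a := by
  by_contra hcon
  have hdisj : Disjoint (N G a b a) (N G b a a) := by
    rw [Set.disjoint_left]
    intro z hz1 hz2
    exact hcon (R_trans hz1 (R_symm hz2))
  have hsub : N G a b a ∪ N G b a a ⊆ (Set.univ : Set Ω) \ {a} := by
    rintro z (hz | hz)
    · simp only [Set.mem_sdiff, Set.mem_univ, Set.mem_singleton_iff, true_and]
      intro e
      rw [e] at hz
      exact hab ((R_eq_iff hz).mpr rfl)
    · simp only [Set.mem_sdiff, Set.mem_univ, Set.mem_singleton_iff, true_and]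
      intro e
      rw [e] at hz
      exact hab ((R_eq_iff hz).mpr rfl).symm
  have h1 := Set.ncard_le_ncard hsub (Set.toFinite _)
  have e1 : (N G a b a).ncard = val G a b := rfl
  have e2 : (N G b a a).ncard = val G a b := by rw [ncard_N_eq, val_swap]
  rw [Set.ncard_union_eq hdisj (Set.toFinite _) (Set.toFinite _),
    Set.ncard_sdiff_singleton_of_mem (Set.mem_univ a), Set.ncard_univ, e1, e2] at h1
  omega

/-- The non-neighbours of `u` in the orbital graph of `(a,b)`. -/
def Nb (G : Type*) {Ω : Type*} [Group G] [MulAction G Ω] (a b u : Ω) : Set Ω :=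
  {v | v ≠ u ∧ ¬ R G a b u v}

theorem mem_Nb {a b u v : Ω} : v ∈ Nb G a b u ↔ v ≠ u ∧ ¬ R G a b u v := Iff.rfl

theorem ncard_Nb [Finite Ω] [IsPretransitive G Ω] {a b : Ω} (hab : a ≠ b) (u : Ω) :
    (Nb G a b u).ncard = Nat.card Ω - 1 - val G a b := by
  have h1 : Nb G a b u = (insert u (N G a b u))ᶜ := by
    ext v
    simp only [mem_Nb, Set.mem_compl_iff, Set.mem_insert_iff, mem_N, not_or]
  have h2 : u ∉ N G a b u := fun h => hab ((R_eq_iff h).mpr rfl)
  rw [h1, Set.ncard_compl, Set.ncard_insert_of_notMem h2 (Set.toFinite _), ncard_N_eq]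
  omega

theorem Nb_smul (g : G) {a b u v : Ω} : g • v ∈ Nb G a b (g • u) ↔ v ∈ Nb G a b u := by
  simp only [mem_Nb]
  rw [R_smul_iff]
  constructor
  · rintro ⟨h1, h2⟩
    exact ⟨fun e => h1 (by rw [e]), h2⟩
  · rintro ⟨h1, h2⟩
    exact ⟨fun e => h1 (MulAction.injective g e), h2⟩

theorem val_le_of_big [Finite Ω] [IsPreprimitive G Ω] {a b : Ω} (hab : a ≠ b)
    (hbig : Nat.card Ω - 1 < 2 * val G a b) (hc : ∃ c, c ≠ a ∧ ¬ R G a b a c) :
    Nat.card Ω - 1 ≤ (Nat.card Ω - 1 - val G a b) ^ 2 := by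
  obtain ⟨c, hca, hcR⟩ := hc
  have hsp : R G a b b a := R_self_paired hab hbig
  have hsymm : ∀ {u v : Ω}, R G a b u v → R G a b v u := fun h => R_trans hsp (R_swap h)
  have hNbsymm : ∀ {u v : Ω}, v ∈ Nb G a b u → u ∈ Nb G a b v := by
    intro u v h
    exact ⟨h.1.symm, fun h' => h.2 (hsymm h')⟩
  -- the orbital graph of `(a,c)` is connected and contained in the complement graph
  have : Nontrivial Ω := ⟨⟨a, b, hab⟩⟩
  have hconn := (Cfsg.Agent.S0734.result (G := G) (Ω := Ω)).mp inferInstance a c hca.symm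
  have hedge : ∀ {u v : Ω},
      (SimpleGraph.fromRel fun x y : Ω => ∃ g : G, g • a = x ∧ g • c = y).Adj u v →
      v ∈ Nb G a b u := by
    intro u v huv
    rw [SimpleGraph.fromRel_adj] at huv
    obtain ⟨hne, h⟩ := huv
    refine ⟨hne.symm, fun hR => ?_⟩
    rcases h with h | h
    · exact hcR (R_trans hR (R_symm h))
    · exact hcR (R_trans (hsymm hR) (R_symm h))
  -- a good pair
  have hgood : ∃ w0 ∈ N G a b a, ∃ t, t ∈ Nb G a b a ∧ w0 ∈ Nb G a b t := by
    have hreach := hconn.preconnected a b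
    rw [SimpleGraph.reachable_iff_reflTransGen] at hreach
    have key : ∀ v, Relation.ReflTransGen
        (SimpleGraph.fromRel fun x y : Ω => ∃ g : G, g • a = x ∧ g • c = y).Adj a v →
        (v = a ∨ v ∈ Nb G a b a ∨ ∃ w0 ∈ N G a b a, ∃ t, t ∈ Nb G a b a ∧ w0 ∈ Nb G a b t) := by
      intro v hv
      induction hv with
      | refl => exact Or.inl rfl
      | @tail v v' _ h2 ih =>
        have hvv' := hedge h2
        rcases ih with rfl | ih | ih
        · exact Or.inr (Or.inl hvv')
        · by_cases h3 : v' = a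
          · exact Or.inl h3
          · by_cases h4 : v' ∈ Nb G a b a
            · exact Or.inr (Or.inl h4)
            · right; right
              have h5 : R G a b a v' := by
                by_contra h5
                exact h4 ⟨h3, h5⟩
              exact ⟨v', h5, v, ih, hvv'⟩
        · exact Or.inr (Or.inr ih)
    rcases key b hreach with h | h | h
    · exact absurd h.symm hab
    · exact absurd (R_refl a b) h.2
    · exact h
  obtain ⟨w0, hw0, t0, ht0, hw0t0⟩ := hgood
  -- cover
  have hcov : N G a b a ⊆ ⋃ t ∈ Nb G a b a, (Nb G a b t \ {a}) := by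
    intro w hw
    obtain ⟨h, hh1, hh2⟩ : R G a w0 a w := R_trans (R_symm hw0) hw
    have h1 : h • t0 ∈ Nb G a b a := by
      have := (Nb_smul (G := G) h (a := a) (b := b) (u := a) (v := t0)).mpr ht0
      rwa [hh1] at this
    have h2 : w ∈ Nb G a b (h • t0) := by
      have := (Nb_smul (G := G) h (a := a) (b := b) (u := t0) (v := w0)).mpr hw0t0
      rwa [hh2] at this
    refine Set.mem_biUnion h1 ⟨h2, ?_⟩
    simp only [Set.mem_singleton_iff]
    intro e
    rw [e] at hw
    exact hab ((R_eq_iff hw).mpr rfl)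
  set m := Nat.card Ω - 1 - val G a b with hm
  have hbound := ncard_le_mul_of_cover (N G a b a) (Nb G a b a) (fun t => Nb G a b t \ {a}) (m - 1) hcov
    (fun t ht => by
      show (Nb G a b t \ {a}).ncard ≤ m - 1
      rw [Set.ncard_sdiff_singleton_of_mem (hNbsymm ht), ncard_Nb hab])
  rw [ncard_Nb hab] at hbound
  change val G a b ≤ m * (m - 1) at hbound
  have hkn : val G a b ≤ Nat.card Ω - 1 := by
    have h1 : (N G a b a).ncard ≤ ((Set.univ : Set Ω) \ {a}).ncard := by
      apply Set.ncard_le_ncard _ (Set.toFinite _)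
      intro z hz
      simp only [Set.mem_sdiff, Set.mem_univ, Set.mem_singleton_iff, true_and]
      intro e
      rw [e] at hz
      exact hab ((R_eq_iff hz).mpr rfl)
    rw [Set.ncard_sdiff_singleton_of_mem (Set.mem_univ a), Set.ncard_univ] at h1
    exact h1
  have h3 : Nat.card Ω - 1 = val G a b + m := by omega
  rw [h3]
  rcases Nat.eq_zero_or_pos m with h0 | h0
  · rw [h0] at hbound ⊢
    simp at hbound
    omega
  · obtain ⟨j, hj⟩ : ∃ j, m = j + 1 := ⟨m - 1, by omega⟩
    rw [hj] at hbound ⊢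
    simp only [Nat.add_sub_cancel] at hbound
    nlinarith

end Cfsg.Agent.S5713L
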